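import Groth.Agent.LC.GorRing
import Mathlib.RingTheory.Localization.Away.Basic
import Mathlib.RingTheory.Localization.AtPrime.Basic

/-!
# Gorenstein local rings away from an element
-/

set_option autoImplicit false
set_option linter.style.haveILetI false

universe u

namespace Groth.Agent.GrSect6

open IsLocalRing

theorem gorensteinLocal_of_ring (L : Type u) [CommRing L] [IsLocalRing L] [hL : LocCoh.IsGorensteinRing L] :
    LocCoh.IsGorensteinLocalRing L := by
  haveI := LocCoh.IsGorensteinRing.isGorensteinLocalRing_localization (A := L) (maximalIdeal L)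
  haveI : IsNoetherianRing L := inferInstance
  have hu : (maximalIdeal L).primeCompl ≤ IsUnit.submonoid L := fun x hx => notMem_maximalIdeal.1 hx
  exact LC.gorenstein_of_ringEquiv
    (IsLocalization.atUnits L (S := Localization.AtPrime (maximalIdeal L)) (maximalIdeal L).primeCompl hu).symm.toRingEquiv

/-- If `R ⊆ Q` and every element of `Q` is multiplied into `R` by a power of `t`, then `R` is Gorenstein at
the primes not containing `t` as soon as `Q` is Gorenstein. -/
theorem gorenstein_atPrime_of_pow_mem {R Q : Type u} [CommRing R] [IsNoetherianRing R] [CommRing Q]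
    [hQ : LocCoh.IsGorensteinRing Q] (φ : R →+* Q) (hφ : Function.Injective φ) (t : R)
    (hpow : ∀ z : Q, ∃ N : ℕ, ∃ r : R, φ r = φ t ^ N * z)
    (p : Ideal R) [p.IsPrime] (htp : t ∉ p) :
    LocCoh.IsGorensteinLocalRing (Localization.AtPrime p) := by
  let C := Localization.Away (φ t)
  haveI : LocCoh.IsGorensteinRing C := LC.gorensteinRing_of_isLocalization (Submonoid.powers (φ t)) C
  letI : Algebra R C := ((algebraMap Q C).comp φ).toAlgebra
  have hmap : ∀ x : R, algebraMap R C x = algebraMap Q C (φ x) := fun _ => rfl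
  haveI : IsLocalization.Away t C := by
    constructor
    refine ⟨?_, ?_, ?_⟩
    · rintro ⟨_, n, rfl⟩
      rw [hmap, map_pow, map_pow]
      exact (IsLocalization.Away.algebraMap_isUnit (φ t)).pow n
    · intro z
      obtain ⟨⟨q, ⟨_, n, rfl⟩⟩, hz⟩ := IsLocalization.surj (Submonoid.powers (φ t)) z
      obtain ⟨N, r, hr⟩ := hpow q
      refine ⟨⟨r, ⟨t ^ (N + n), N + n, rfl⟩⟩, ?_⟩
      show z * algebraMap R C (t ^ (N + n)) = algebraMap R C r
      rw [hmap, hmap, hr, map_pow, map_pow, map_mul, map_pow, pow_add, ← hz]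
      dsimp only
      rw [map_pow]
      ring
    · intro x y hxy
      rw [hmap, hmap] at hxy
      obtain ⟨⟨_, n, rfl⟩, hn⟩ := IsLocalization.exists_of_eq (M := Submonoid.powers (φ t)) hxy
      exact ⟨⟨t ^ n, n, rfl⟩, hφ (by rw [map_mul, map_mul, map_pow]; exact hn)⟩
  let L := Localization.AtPrime p
  haveI : IsNoetherianRing L := LC.isNoetherianRing_atPrime p
  have hle : Submonoid.powers t ≤ p.primeCompl := by
    rintro _ ⟨n, rfl⟩
    exact fun h => htp (Ideal.IsPrime.mem_of_pow_mem inferInstance n h)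
  let h0 : C →+* L := IsLocalization.map L (RingHom.id R) (T := p.primeCompl) (M := Submonoid.powers t) hle
  letI : Algebra C L := h0.toAlgebra
  haveI : IsScalarTower R C L := IsScalarTower.of_algebraMap_eq fun x => (IsLocalization.map_eq (M := Submonoid.powers t) (S := C) (g := RingHom.id R) (T := p.primeCompl) (Q := L) hle x).symm
  haveI : IsLocalization (p.primeCompl.map (algebraMap R C)) L :=
    IsLocalization.isLocalization_of_submonoid_le C L (Submonoid.powers t) p.primeCompl hle
  haveI : LocCoh.IsGorensteinRing L := LC.gorensteinRing_of_isLocalization (p.primeCompl.map (algebraMap R C)) L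
  exact gorensteinLocal_of_ring L

/-- Gorenstein property from a quotient by a nonzerodivisor and the primes avoiding it. -/
theorem gorensteinRing_of_quotient {A C : Type u} [CommRing A] [IsNoetherianRing A] [CommRing C]
    (π : A →+* C) (hπ : Function.Surjective π) {f : A} (hf : IsSMulRegular A f)
    (hker : RingHom.ker π = Ideal.span {f}) (hC : LocCoh.IsGorensteinRing C)
    (hout : ∀ (p : Ideal A) [p.IsPrime], f ∉ p → LocCoh.IsGorensteinLocalRing (Localization.AtPrime p)) :
    LocCoh.IsGorensteinRing A := by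
  haveI := hC
  refine LC.gorensteinRing_of_atPrime fun Q _ => ?_
  by_cases hfQ : f ∈ Q
  swap
  · exact hout Q hfQ
  let q := Q.map π
  have hkQ : RingHom.ker π ≤ Q := by rw [hker, Ideal.span_singleton_le_iff_mem]; exact hfQ
  haveI : q.IsPrime := Ideal.map_isPrime_of_surjective hπ hkQ
  have hqQ : Q = q.comap π := by
    rw [Ideal.comap_map_of_surjective π hπ, ← RingHom.ker_eq_comap_bot, sup_eq_left.2 hkQ]
  haveI := LocCoh.IsGorensteinRing.isGorensteinLocalRing_localization (A := C) q
  haveI := LC.isNoetherianRing_atPrime Q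
  let σ := Localization.localRingHom Q q π hqQ
  have hσ : Function.Surjective σ := by
    intro z
    obtain ⟨c, ⟨t, ht⟩, rfl⟩ := IsLocalization.exists_mk'_eq q.primeCompl z
    obtain ⟨a, rfl⟩ := hπ c
    obtain ⟨s, rfl⟩ := hπ t
    exact ⟨IsLocalization.mk' _ a (⟨s, fun h => ht (Ideal.mem_map_of_mem π h)⟩ : Q.primeCompl),
      Localization.localRingHom_mk' _ _ _ _ _ _⟩
  refine (LC.gorenstein_iff_of_surjective σ hσ (x := algebraMap A _ f) ?_ ?_ ?_).2 ‹_›
  · rw [IsLocalization.AtPrime.to_map_mem_maximal_iff _ Q]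
    exact hfQ
  · haveI : Module.Flat A (Localization.AtPrime Q) := IsLocalization.flat _ Q.primeCompl
    exact hf.of_flat
  · refine le_antisymm (fun z hz => ?_) ?_
    · obtain ⟨a, ⟨s, hs⟩, rfl⟩ := IsLocalization.exists_mk'_eq Q.primeCompl z
      rw [RingHom.mem_ker, Localization.localRingHom_mk', IsLocalization.mk'_eq_zero_iff] at hz
      obtain ⟨⟨u, hu⟩, hu'⟩ := hz
      obtain ⟨v, rfl⟩ := hπ u
      have hva : v * a ∈ Ideal.span {f} := hker ▸ (RingHom.mem_ker (f := π)).2 (by rw [map_mul]; exact hu')
      obtain ⟨w, hw⟩ := Ideal.mem_span_singleton'.1 hva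
      refine Ideal.mem_span_singleton'.2
        ⟨IsLocalization.mk' _ w ((⟨v, fun h => hu (Ideal.mem_map_of_mem π h)⟩ : Q.primeCompl) * ⟨s, hs⟩), ?_⟩
      rw [mul_comm, IsLocalization.mul_mk'_eq_mk'_of_mul, mul_comm f w, hw]
      rw [IsLocalization.mk'_eq_iff_eq]
      exact congrArg _ (show s * (v * a) = v * s * a by ring)
    · rw [Ideal.span_singleton_le_iff_mem, RingHom.mem_ker, Localization.localRingHom_to_map,
        (RingHom.mem_ker (f := π)).1 (hker ▸ Ideal.mem_span_singleton_self f), map_zero]

theorem gorensteinRing_iff_quotient (A : Type u) [CommRing A] [IsNoetherianRing A] (f : A)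
    (hf : IsSMulRegular A f)
    (hout : ∀ (p : Ideal A) [p.IsPrime], f ∉ p → LocCoh.IsGorensteinLocalRing (Localization.AtPrime p)) :
    LocCoh.IsGorensteinRing A ↔ LocCoh.IsGorensteinRing (A ⧸ Ideal.span {f}) :=
  ⟨fun h => @LC.gorensteinRing_of_surjective A _ _ h _ (Ideal.Quotient.mk _) Ideal.Quotient.mk_surjective f hf Ideal.mk_ker,
    fun h => gorensteinRing_of_quotient (Ideal.Quotient.mk _) Ideal.Quotient.mk_surjective hf Ideal.mk_ker h hout⟩

end Groth.Agent.GrSect6
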