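import Groth.Agent.FFLib.Gaps
import Groth.Agent.FFLib.Ext
import Groth.Prelude.Def_W4c6gradedringsgwSect
import Mathlib.RingTheory.Polynomial.Subring
import Mathlib.Algebra.Module.SpanRank
import Mathlib.Algebra.MonoidAlgebra.Basic
import Mathlib.LinearAlgebra.Dimension.Constructions

/-!
# The section ring of a point on a curve and its semigroup algebra
-/

namespace Groth.Agent.GrSect6

open FunFld WithZero Polynomial W4c6gradedringsgw FFLib

variable {k K : Type*} [Field k] [Field K] [Algebra k K]
variable (P : Place k K)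

/-- The divisor `n P`. -/
theorem smul_single (n : ℤ) :
    n • (Finsupp.single P 1 : Divisor k K) = Finsupp.single P n := by
  rw [Finsupp.smul_single, smul_eq_mul, mul_one]

theorem mem_sectRing {p : K[X]} :
    p ∈ sectRing (Finsupp.single P 1 : Divisor k K) ↔
      ∀ n : ℕ, p.coeff n ∈ L (Finsupp.single P (n : ℤ)) := by
  refine forall_congr' fun n => ?_
  rw [smul_single]

/-- A uniformiser. -/
noncomputable def uni : K := Classical.choose (P.2.2 (exp (-1)))

theorem val_uni : P.1 (uni P) = exp (-1) := Classical.choose_spec (P.2.2 (exp (-1)))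

theorem val_uni_pow (n : ℕ) : P.1 (uni P ^ n) = exp (-(n : ℤ)) := by
  rw [map_pow, val_uni, ← exp_nsmul]; simp

theorem scaled_mem {n : ℕ} {x : K} (hx : x ∈ L (Finsupp.single P (n : ℤ))) :
    x * uni P ^ n ∈ P.O := by
  have h := hx P
  rw [Finsupp.single_eq_same] at h
  exact val_mul_le_one (val_uni_pow P n) h

theorem scaled_subset (p : sectRing (Finsupp.single P 1 : Divisor k K)) :
    (((p : K[X]).comp (C (uni P) * X)).coeffs : Set K) ⊆ P.O.toSubring := by
  intro c hc
  obtain ⟨n, -, rfl⟩ := Polynomial.mem_coeffs_iff.mp hc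
  rw [comp_C_mul_X_coeff]
  exact scaled_mem P ((mem_sectRing P).mp p.2 n)

/-- `T ↦ π T` lands in `O[T]`. -/
noncomputable def scale :
    sectRing (Finsupp.single P 1 : Divisor k K) →ₐ[k] (P.O)[X] where
  toFun p := ((p : K[X]).comp (C (uni P) * X)).toSubring P.O.toSubring (scaled_subset P p)
  map_one' := by
    apply map_injective P.O.toSubring.subtype Subtype.val_injective
    exact (map_toSubring _ _ _).trans (by simp)
  map_mul' p q := by
    apply map_injective P.O.toSubring.subtype Subtype.val_injective
    refine (map_toSubring _ _ _).trans ?_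
    rw [Subalgebra.coe_mul, mul_comp]
    refine Eq.trans ?_ (Polynomial.map_mul _).symm
    rw [map_toSubring, map_toSubring]
  map_zero' := by
    apply map_injective P.O.toSubring.subtype Subtype.val_injective
    exact (map_toSubring _ _ _).trans (by simp)
  map_add' p q := by
    apply map_injective P.O.toSubring.subtype Subtype.val_injective
    refine (map_toSubring _ _ _).trans ?_
    rw [Subalgebra.coe_add, add_comp]
    refine Eq.trans ?_ (Polynomial.map_add _).symm
    rw [map_toSubring, map_toSubring]
  commutes' c := by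
    apply map_injective P.O.toSubring.subtype Subtype.val_injective
    refine (map_toSubring _ _ _).trans ?_
    simp [Polynomial.algebraMap_apply]
    rfl

theorem coe_scale_coeff (p : sectRing (Finsupp.single P 1 : Divisor k K)) (n : ℕ) :
    (((scale P p).coeff n : P.O) : K) = (p : K[X]).coeff n * uni P ^ n := by
  refine (Polynomial.coeff_toSubring _ _ (scaled_subset P p)).trans ?_
  rw [comp_C_mul_X_coeff]

variable [IsAlgClosed k]
variable (hK : IsFunctionField k K)

/-- The residue field of a place is the field of constants. -/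
noncomputable def resEquiv : k ≃ₐ[k] Res P :=
  haveI := residue_finite hK.1 P
  haveI : Algebra.IsIntegral k (Res P) :=
    @Algebra.IsIntegral.of_finite k (Res P) _ _ _ (residue_finite hK.1 P)
  AlgEquiv.ofBijective (Algebra.ofId k (Res P))
    (IsAlgClosed.algebraMap_bijective_of_isIntegral (k := k) (K := Res P))

/-- The residue map as a map of `k`-algebras. -/
noncomputable def resHom : P.O →ₐ[k] Res P :=
  { IsLocalRing.residue P.O with commutes' := fun _ => rfl }

/-- Leading coefficients: `R → k[X]`. -/
noncomputable def psi : sectRing (Finsupp.single P 1 : Divisor k K) →ₐ[k] k[X] :=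
  (Polynomial.mapAlgHom ((resEquiv P hK).symm.toAlgHom.comp (resHom P))).comp (scale P)

theorem psi_coeff (p : sectRing (Finsupp.single P 1 : Divisor k K)) (n : ℕ) :
    (psi P hK p).coeff n = (resEquiv P hK).symm (resHom P ((scale P p).coeff n)) := by
  simp [psi]

theorem psi_coeff_eq_zero (p : sectRing (Finsupp.single P 1 : Divisor k K)) (n : ℕ) :
    (psi P hK p).coeff n = 0 ↔ (p : K[X]).coeff n ∈ L (Finsupp.single P ((n : ℤ) - 1)) := by
  classical
  rw [psi_coeff, EmbeddingLike.map_eq_zero_iff]
  refine (residue_eq_zero P _).trans ?_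
  rw [coe_scale_coeff, map_mul, val_uni_pow, exp_neg, ← div_eq_mul_inv,
    div_lt_one₀ (zero_lt_iff.mpr exp_ne_zero), lt_exp_iff_le_exp_pred]
  have hx := (mem_sectRing P).mp p.2 n
  refine ⟨fun h Q => ?_, fun h => by simpa using h P⟩
  rcases eq_or_ne Q P with rfl | hQ
  · simpa using h
  · simpa [hQ] using hx Q

variable {P} in
include hK in
theorem L_one (hg : 1 ≤ genus k K) {x : K} (hx : x ∈ L (Finsupp.single P (1 : ℤ))) :
    x ∈ L (0 : Divisor k K) := by
  have h1 := ell_single_one hK hg (deg_eq_one hK.1 P)
  have := L_finite hK.1 (Finsupp.single P (1 : ℤ))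
  have hle : L (0 : Divisor k K) ≤ L (Finsupp.single P (1 : ℤ)) :=
    L_mono (Finsupp.single_nonneg.mpr zero_le_one)
  rwa [Submodule.eq_of_le_of_finrank_eq hle ((ell_zero hK).trans h1.symm)]

variable {P} in
include hK in
theorem eq_zero_of_mem_L_neg_one {x : K} (hx : x ∈ L (Finsupp.single P (-1 : ℤ))) : x = 0 := by
  by_contra hx0
  have h0 : x ∈ L (0 : Divisor k K) :=
    L_mono (D := Finsupp.single P (-1 : ℤ)) (Finsupp.single_nonpos.mpr (by norm_num)) hx
  obtain ⟨c, hc⟩ := exists_eq_algebraMap hK
    (fun h => h (L_zero_le_algebraic hK.1 h0))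
  have := hx P
  rw [Finsupp.single_eq_same, ← hc, val_algebraMap P (fun h => hx0 (by simp [← hc, h])),
    ← exp_zero, exp_le_exp] at this
  omega

variable {P}

theorem psi_eq_zero_iff (p : sectRing (Finsupp.single P 1 : Divisor k K)) :
    psi P hK p = 0 ↔ ∀ n : ℕ, (p : K[X]).coeff n ∈ L (Finsupp.single P ((n : ℤ) - 1)) := by
  rw [Polynomial.ext_iff]
  simp only [psi_coeff_eq_zero, coeff_zero]

include hK in
theorem zero_mem_poleOrders : (0 : ℕ) ∈ poleOrders P := by
  show ell _ = ell _ + 1
  rw [smul_single, smul_single]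
  have h1 : ell (Finsupp.single P (-1 : ℤ)) = 0 := by
    have : L (Finsupp.single P (-1 : ℤ)) = ⊥ :=
      (Submodule.eq_bot_iff _).mpr fun x hx => eq_zero_of_mem_L_neg_one hK hx
    rw [ell, this, finrank_bot]
  simp only [Nat.cast_zero, zero_sub]
  rw [Finsupp.single_zero, ell_zero hK, h1]

include hK in
theorem mem_poleOrders_iff {n : ℕ} (hn : 1 ≤ n) : n ∈ poleOrders P ↔ ¬ IsGap P n := by
  obtain ⟨m, rfl⟩ : ∃ m, n = m + 1 := ⟨n - 1, by omega⟩
  rw [isGap_succ_iff hK P m]
  show ell _ = ell _ + 1 ↔ _
  rw [smul_single, smul_single]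
  push_cast
  rw [add_sub_cancel_right]
  have h1 := ell_single_step hK (deg_eq_one hK.1 P) m
  have h2 := (ell_le_of_le hK.1 (show Finsupp.single P (m : ℤ) ≤ Finsupp.single P ((m : ℤ) + 1) from
    Finsupp.single_le_single.mpr (by omega))).1
  omega

theorem psi_coeff_eq_zero_of_not_mem (p : sectRing (Finsupp.single P 1 : Divisor k K)) {n : ℕ}
    (hn : n ∉ poleOrders P) : (psi P hK p).coeff n = 0 := by
  have h0 : n ≠ 0 := fun h => hn (h ▸ zero_mem_poleOrders hK)
  rw [mem_poleOrders_iff hK (Nat.one_le_iff_ne_zero.mpr h0), not_not] at hn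
  rw [psi_coeff_eq_zero, ← hn]
  exact (mem_sectRing P).mp p.2 n

/-- `x T^n`. -/
noncomputable def monom (n : ℕ) (x : K) (hx : x ∈ L (Finsupp.single P (n : ℤ))) :
    sectRing (Finsupp.single P 1 : Divisor k K) :=
  ⟨monomial n x, (mem_sectRing P).mpr fun m => by
    rw [coeff_monomial]
    split_ifs with h
    · subst h; exact hx
    · exact zero_mem _⟩

include hK in
theorem exists_psi_eq {n : ℕ} (hn : n ∈ poleOrders P) (c : k) :
    ∃ p : sectRing (Finsupp.single P 1 : Divisor k K),
      psi P hK p = monomial n c ∧ (1 ≤ n → (p : K[X]).coeff 0 = 0) := by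
  obtain ⟨x, hx, hne⟩ : ∃ (x : K) (hx : x ∈ L (Finsupp.single P (n : ℤ))),
      (psi P hK (monom n x hx)).coeff n ≠ 0 := by
    by_contra hc
    push Not at hc
    have h' : L (Finsupp.single P (n : ℤ)) ≤ L (Finsupp.single P ((n : ℤ) - 1)) := fun x hx => by
      have := (psi_coeff_eq_zero P hK _ n).mp (hc x hx)
      simpa [monom] using this
    rcases Nat.eq_zero_or_pos n with rfl | hpos
    · have h1 : (1 : K) ∈ L (Finsupp.single P ((0 : ℕ) : ℤ)) := fun Q => by simp
      exact one_ne_zero (eq_zero_of_mem_L_neg_one hK (P := P) (by simpa using h' h1))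
    · exact (mem_poleOrders_iff hK hpos).mp hn
        (le_antisymm h' (L_mono (Finsupp.single_le_single.mpr (by omega))))
  set d := (psi P hK (monom n x hx)).coeff n
  refine ⟨(c * d⁻¹) • monom n x hx, ?_, fun h => ?_⟩
  · ext m
    rw [map_smul, coeff_smul, coeff_monomial]
    split_ifs with h
    · subst h; simp [d, mul_assoc, inv_mul_cancel₀ hne]
    · have : (psi P hK (monom n x hx)).coeff m = 0 := by
        rw [psi_coeff_eq_zero]
        show (monomial n x).coeff m ∈ _
        rw [coeff_monomial, if_neg h]
        exact zero_mem _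
      rw [this, smul_zero]
  · show ((c * d⁻¹) • monomial n x).coeff 0 = 0
    rw [coeff_smul, coeff_monomial, if_neg (by omega), smul_zero]

include hK in
theorem closure_poleOrders :
    ((AddSubmonoid.closure (poleOrders P) : AddSubmonoid ℕ) : Set ℕ) = poleOrders P := by
  refine Set.Subset.antisymm (fun n hn => ?_) AddSubmonoid.subset_closure
  induction hn using AddSubmonoid.closure_induction with
  | mem x hx => exact hx
  | zero => exact zero_mem_poleOrders hK
  | add a b _ _ ha hb =>
    rcases Nat.eq_zero_or_pos a with rfl | ha'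
    · simpa using hb
    rcases Nat.eq_zero_or_pos b with rfl | hb'
    · simpa using ha
    exact (mem_poleOrders_iff hK (by omega)).mpr
      (not_gap_add hK ha' hb' ((mem_poleOrders_iff hK ha').mp ha) ((mem_poleOrders_iff hK hb').mp hb))

/-- The semigroup algebra inside `k[X]`. -/
noncomputable def sgToPoly (S : AddSubmonoid ℕ) : AddMonoidAlgebra k S →ₐ[k] k[X] :=
  (toFinsuppIsoAlg k).symm.toAlgHom.comp (AddMonoidAlgebra.mapDomainAlgHom k k S.subtype)

theorem sgToPoly_injective (S : AddSubmonoid ℕ) : Function.Injective (sgToPoly (k := k) S) :=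
  (toFinsuppIsoAlg k).symm.injective.comp
    (AddMonoidAlgebra.mapDomain_injective Subtype.val_injective)

theorem sgToPoly_single (S : AddSubmonoid ℕ) (s : S) (c : k) :
    sgToPoly S (AddMonoidAlgebra.single s c) = monomial (s : ℕ) c := by
  show (toFinsuppIsoAlg k).symm (AddMonoidAlgebra.mapDomain S.subtype (AddMonoidAlgebra.single s c)) = _
  rw [AddMonoidAlgebra.mapDomain_single]
  exact ofFinsupp_single _ _

theorem range_psi :
    (psi P hK).range = (sgToPoly (k := k) (AddSubmonoid.closure (poleOrders P))).range := by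
  apply le_antisymm
  · rintro q ⟨p, rfl⟩
    show psi P hK p ∈ _
    rw [as_sum_range' (psi P hK p) _ (Nat.lt_succ_self _)]
    refine Subalgebra.sum_mem _ fun n _ => ?_
    by_cases hn : n ∈ poleOrders P
    · exact ⟨AddMonoidAlgebra.single ⟨n, AddSubmonoid.subset_closure hn⟩ _, sgToPoly_single _ _ _⟩
    · rw [psi_coeff_eq_zero_of_not_mem hK p hn, monomial_zero_right]
      exact zero_mem _
  · rintro q ⟨f, rfl⟩
    show sgToPoly _ f ∈ _
    induction f using AddMonoidAlgebra.induction_linear with
    | zero => rw [map_zero]; exact zero_mem _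
    | add a b ha hb => rw [map_add]; exact add_mem ha hb
    | single s c =>
      rw [sgToPoly_single]
      have hs : (s : ℕ) ∈ poleOrders P := (Set.ext_iff.mp (closure_poleOrders hK) _).mp s.2
      obtain ⟨p, hp, -⟩ := exists_psi_eq hK hs c
      exact ⟨p, hp⟩

variable (t : sectRing (Finsupp.single P 1 : Divisor k K)) {a : K}

include hK in
theorem ker_psi (hg : 1 ≤ genus k K) (ha : a ≠ 0) (ht : (t : K[X]) = C a * X) :
    RingHom.ker (psi P hK) = Ideal.span {t} := by
  have haL : a ∈ L (Finsupp.single P (1 : ℤ)) := by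
    simpa [ht] using (mem_sectRing P).mp t.2 1
  have ha0 := L_one hK hg haL
  apply le_antisymm
  · intro p hp
    have h := (psi_eq_zero_iff hK p).mp hp
    obtain ⟨c, hc⟩ := exists_eq_algebraMap hK (fun hh => hh (L_zero_le_algebraic hK.1 ha0))
    have hp0 : (p : K[X]).coeff 0 = 0 := eq_zero_of_mem_L_neg_one hK (by simpa using h 0)
    have hq : c⁻¹ • (p : K[X]).divX ∈ sectRing (Finsupp.single P 1 : Divisor k K) :=
      (mem_sectRing P).mpr fun n => by
        rw [coeff_smul, coeff_divX]
        exact Submodule.smul_mem _ _ (by simpa using h (n + 1))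
    refine Ideal.mem_span_singleton'.mpr ⟨⟨_, hq⟩, Subtype.ext ?_⟩
    show c⁻¹ • (p : K[X]).divX * (t : K[X]) = p
    conv_rhs => rw [← divX_mul_X_add (p : K[X]), hp0, map_zero, add_zero]
    rw [ht, ← hc, Algebra.smul_def, Polynomial.algebraMap_apply, map_inv₀]
    rw [show C (algebraMap k K c)⁻¹ * (p : K[X]).divX * (C (algebraMap k K c) * X) =
      (C (algebraMap k K c)⁻¹ * C (algebraMap k K c)) * ((p : K[X]).divX * X) by ring,
      ← map_mul, inv_mul_cancel₀ (hc ▸ ha), map_one, one_mul]
  · rw [Ideal.span_le, Set.singleton_subset_iff]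
    refine (psi_eq_zero_iff hK t).mpr fun n => ?_
    rw [ht, coeff_C_mul_X]
    split_ifs with h
    · subst h; simpa using ha0
    · exact zero_mem _

theorem prime_and_equiv (hg : 1 ≤ genus k K) (hK : IsFunctionField k K) (ha : a ≠ 0)
    (ht : (t : K[X]) = C a * X) :
    Prime t ∧ Nonempty ((↥(sectRing (Finsupp.single P 1 : Divisor k K)) ⧸ Ideal.span {t}) ≃ₐ[k]
      AddMonoidAlgebra k ↥(AddSubmonoid.closure (poleOrders P))) := by
  have hker := ker_psi hK t hg ha ht
  have ht0 : t ≠ 0 := fun h => by
    rw [h] at ht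
    simpa [ha] using congrArg (fun q : K[X] => q.coeff 1) ht.symm
  refine ⟨?_, ⟨?_⟩⟩
  · rw [← Ideal.span_singleton_prime ht0, ← hker]
    exact RingHom.ker_isPrime _
  · exact (Ideal.quotientEquivAlgOfEq k hker.symm).trans <|
      (Ideal.quotientKerEquivRange (psi P hK)).trans <|
      (Subalgebra.equivOfEq _ _ (range_psi hK)).trans
        (AlgEquiv.ofInjective _ (sgToPoly_injective _)).symm

include hK in
theorem minGens_finite : (minGens (poleOrders P)).Finite := by
  obtain ⟨x, -, -, -, m, hm, hpoles⟩ := exists_poles_single hK.1 P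
  have hx0 : x ≠ 0 := by
    rintro rfl
    have := congrArg (fun D : Divisor k K => D P) hpoles
    simp [poles, div_apply hK.1] at this
    omega
  have hmem : m ∈ poleOrders P := by
    have h : ∀ Q : Place k K, max (-Q.ord x) 0 = (Finsupp.single P (m : ℤ) : Divisor k K) Q := fun Q => by
      rw [← hpoles, poles, Finsupp.mapRange_apply, div_apply hK.1]
    refine (mem_poleOrders_iff hK hm).mpr (not_gap_of_ord ((mem_L_iff_ord hx0).mpr fun Q => ?_) hx0 ?_)
    · have := h Q; omega
    · have := h P; rw [Finsupp.single_eq_same] at this; omega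
  haveI : NeZero m := ⟨by omega⟩
  refine Set.Finite.of_injOn (f := fun h : ℕ => (⟨h % m, Nat.mod_lt _ (by omega)⟩ : Fin m))
    (Set.mapsTo_univ _ _) ?_ Set.finite_univ
  have hj : ∀ j : ℕ, j * m ∈ poleOrders P := fun j => by
    rw [← closure_poleOrders hK, SetLike.mem_coe, ← smul_eq_mul]
    exact AddSubmonoid.nsmul_mem _ (AddSubmonoid.subset_closure hmem) j
  have key : ∀ u ∈ minGens (poleOrders P), ∀ v ∈ minGens (poleOrders P), u % m = v % m → u < v → False := by
    intro u hu v hv huv hlt
    have hdvd : m ∣ v - u := (Nat.modEq_iff_dvd' hlt.le).mp huv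
    obtain ⟨j, hj'⟩ := hdvd
    refine hv.2.2 u hu.1 (j * m) (hj j) hu.2.1 ?_ (by rw [mul_comm j m, ← hj']; omega)
    intro h0
    rw [mul_comm, ← hj'] at h0
    omega
  intro u hu v hv huv
  have huv' : u % m = v % m := congrArg Fin.val huv
  rcases lt_trichotomy u v with h | h | h
  · exact (key u hu v hv huv' h).elim
  · exact h
  · exact (key v hv u hu huv'.symm h).elim

/-- The irrelevant ideal. -/
noncomputable abbrev irr (P : Place k K) : Ideal (sectRing (Finsupp.single P 1 : Divisor k K)) :=
  RingHom.ker (Polynomial.constantCoeff.comp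
    (sectRing (Finsupp.single P 1 : Divisor k K)).val.toRingHom)

omit [IsAlgClosed k] in
theorem mem_irr {p : sectRing (Finsupp.single P 1 : Divisor k K)} :
    p ∈ irr P ↔ (p : K[X]).coeff 0 = 0 := Iff.rfl

include hK in
theorem spanFinrank_irr (hg : 1 ≤ genus k K) :
    (irr P).spanFinrank = (minGens (poleOrders P)).ncard + 1 := by
  classical
  let t : sectRing (Finsupp.single P 1 : Divisor k K) := monom 1 1 (fun Q => by
    rw [map_one, ← exp_zero, exp_le_exp]
    by_cases h : P = Q <;> simp [Finsupp.single_apply, h])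
  have ht : (t : K[X]) = C (1 : K) * X := by simp [t, monom, monomial_one_one_eq_X]
  have hker := ker_psi hK t hg one_ne_zero ht
  let M := minGens (poleOrders P)
  have hM : M.Finite := minGens_finite hK
  haveI : Fintype M := hM.fintype
  choose f hf hf0 using fun h : M => exists_psi_eq hK h.2.1 (1 : k)
  let g : Option M → sectRing (Finsupp.single P 1 : Divisor k K) := fun o => o.elim t f
  have hgen : Ideal.span (Set.range g) = irr P := by
    apply le_antisymm
    · rw [Ideal.span_le]
      rintro _ ⟨_ | h, rfl⟩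
      · exact mem_irr.mpr (by simp [g, ht])
      · exact mem_irr.mpr (hf0 h (Nat.one_le_iff_ne_zero.mpr h.2.2.1))
    intro p hp
    have hsub : Ideal.span {t} ≤ Ideal.span (Set.range g) :=
      Ideal.span_mono (Set.singleton_subset_iff.mpr ⟨none, rfl⟩)
    have hmon : ∀ n, n ∈ poleOrders P → n ≠ 0 → ∀ c : k,
        ∃ q ∈ Ideal.span (Set.range g), psi P hK q = monomial n c := by
      intro n hn hn0 c
      by_cases hmin : n ∈ M
      · refine ⟨c • f ⟨n, hmin⟩, Submodule.smul_of_tower_mem _ c (Ideal.subset_span ⟨some ⟨n, hmin⟩, rfl⟩), ?_⟩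
        rw [map_smul, hf, smul_monomial, smul_eq_mul, mul_one]
      · simp only [M, minGens, Set.mem_setOf_eq, hn, hn0, ne_eq, not_false_eq_true, true_and, not_forall,
          not_not, exists_prop] at hmin
        obtain ⟨a, ha, b, hb, ha0, hb0, hab⟩ := hmin
        -- split off a minimal generator
        have : ∀ m, m ∈ poleOrders P → m ≠ 0 → ∃ q ∈ Ideal.span (Set.range g), psi P hK q = monomial m (1 : k) := by
          intro m
          induction m using Nat.strong_induction_on with
          | _ m ih =>
          intro hm hm0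
          by_cases hm' : m ∈ M
          · exact ⟨f ⟨m, hm'⟩, Ideal.subset_span ⟨some ⟨m, hm'⟩, rfl⟩, hf _⟩
          · simp only [M, minGens, Set.mem_setOf_eq, hm, hm0, ne_eq, not_false_eq_true, true_and, not_forall,
              not_not, exists_prop] at hm'
            obtain ⟨u, hu, v, hv, hu0, hv0, huv⟩ := hm'
            obtain ⟨q, hq, hq'⟩ := ih u (by omega) hu hu0
            obtain ⟨q₂, -, hq₂⟩ := ih v (by omega) hv hv0
            exact ⟨q * q₂, Ideal.mul_mem_right _ _ hq,
              by rw [map_mul, hq', hq₂, monomial_mul_monomial, huv, mul_one]⟩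
        obtain ⟨q, hq, hq'⟩ := this a ha ha0
        obtain ⟨q₂, hq₂, -⟩ := exists_psi_eq hK hb c
        exact ⟨q * q₂, Ideal.mul_mem_right _ _ hq,
          by rw [map_mul, hq', hq₂, monomial_mul_monomial, hab, one_mul]⟩
    choose q hq hq' using hmon
    let s := (psi P hK p).support
    have hs : ∀ n ∈ s, n ∈ poleOrders P ∧ n ≠ 0 := fun n hn => by
      rw [Polynomial.mem_support_iff] at hn
      refine ⟨by_contra fun h => hn (psi_coeff_eq_zero_of_not_mem hK p h), ?_⟩
      rintro rfl
      apply hn
      rw [psi_coeff_eq_zero, mem_irr.mp hp]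
      exact zero_mem _
    let Q := ∑ n ∈ s.attach, q n.1 (hs n.1 n.2).1 (hs n.1 n.2).2 ((psi P hK p).coeff n.1)
    have hQ : psi P hK Q = psi P hK p := by
      rw [map_sum]
      simp only [hq']
      rw [Finset.sum_attach s fun n => monomial n ((psi P hK p).coeff n)]
      exact (Polynomial.as_sum_support (psi P hK p)).symm
    have h1 : p - Q ∈ Ideal.span {t} := by
      rw [← hker, RingHom.mem_ker, map_sub, hQ, sub_self]
    have h2 : Q ∈ Ideal.span (Set.range g) := sum_mem fun n _ => hq _ _ _ _
    simpa using add_mem (hsub h1) h2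
  apply le_antisymm
  · rw [← hgen]
    refine (Submodule.spanFinrank_span_le_ncard_of_finite (Set.finite_range g)).trans ?_
    rw [← Set.image_univ]
    refine (Set.ncard_image_le (Set.toFinite _)).trans ?_
    rw [Set.ncard_univ, Finite.card_option, ← Nat.card_coe_set_eq]
  · -- linear parts
    let T := sectRing (Finsupp.single P 1 : Divisor k K)
    let D : irr P →ₗ[k] K × (M → k) :=
      { toFun := fun p => (((p.1 : T) : K[X]).coeff 1, fun h => (psi P hK p.1).coeff h)
        map_add' := fun p q => by ext <;> simp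
        map_smul' := fun c p => by ext <;> simp }
    have hfg : (irr P).FG := hgen ▸ Submodule.fg_span (Set.finite_range g)
    let G := Submodule.generators (irr P)
    have hG : G.Finite := Submodule.FG.finite_generators hfg
    have hmemG : ∀ x ∈ G, x ∈ irr P := fun x hx => Submodule.FG.generators_mem _ hx
    have hmul : ∀ (r : T) (x : irr P), ∃ c : k, D ⟨r * x.1, Ideal.mul_mem_left _ r x.2⟩ = c • D x := by
      intro r x
      have hr : (r : K[X]).coeff 0 ∈ L (0 : Divisor k K) := by simpa using (mem_sectRing P).mp r.2 0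
      obtain ⟨c, hc⟩ := exists_eq_algebraMap hK (fun hh => hh (L_zero_le_algebraic hK.1 hr))
      have hr' : r - algebraMap k T c ∈ irr P := mem_irr.mpr (by simp [hc, Polynomial.algebraMap_apply])
      refine ⟨c, ?_⟩
      rw [← map_smul]
      have hx0 : ((x.1 : T) : K[X]).coeff 0 = 0 := mem_irr.mp x.2
      have hr0 : ((r - algebraMap k T c : T) : K[X]).coeff 0 = 0 := mem_irr.mp hr'
      have hsplit : r * x.1 = (r - algebraMap k T c) * x.1 + c • x.1 := by
        rw [Algebra.smul_def]; ring
      apply Prod.ext
      · show ((r * x.1 : T) : K[X]).coeff 1 = ((c • x.1 : T) : K[X]).coeff 1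
        rw [hsplit, Subalgebra.coe_add, coeff_add, Subalgebra.coe_mul, coeff_mul]
        simp [Finset.Nat.antidiagonal_succ, hr0, hx0, hc]
      · funext h
        show (psi P hK (r * x.1)).coeff h = (psi P hK (c • x.1)).coeff h
        rw [hsplit, map_add, coeff_add, map_mul, coeff_mul, add_eq_right]
        refine Finset.sum_eq_zero fun ij hij => ?_
        rw [Finset.mem_antidiagonal] at hij
        have hz : ∀ (y : T), (y : K[X]).coeff 0 = 0 → (psi P hK y).coeff 0 = 0 := fun y hy => by
          rw [psi_coeff_eq_zero, hy]; exact zero_mem _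
        by_cases h1 : ij.1 = 0
        · rw [h1, hz _ hr0, zero_mul]
        by_cases h2 : ij.2 = 0
        · rw [h2, hz _ hx0, mul_zero]
        by_cases h3 : ij.1 ∈ poleOrders P
        · by_cases h4 : ij.2 ∈ poleOrders P
          · exact absurd hij (h.2.2.2 _ h3 _ h4 h1 h2)
          · rw [psi_coeff_eq_zero_of_not_mem hK _ h4, mul_zero]
        · rw [psi_coeff_eq_zero_of_not_mem hK _ h3, zero_mul]
    let W : Submodule k (K × (M → k)) :=
      Submodule.span k ((fun x : G => D ⟨x.1, hmemG x.1 x.2⟩) '' Set.univ)
    have hW : ∀ p : irr P, D p ∈ W := by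
      rintro ⟨p, hp⟩
      have hp' : p ∈ Submodule.span T G := by rwa [Submodule.span_generators]
      revert hp
      induction hp' using Submodule.span_induction with
      | mem x hx => intro hp; exact Submodule.subset_span ⟨⟨x, hx⟩, trivial, rfl⟩
      | zero => intro hp; rw [show (⟨0, hp⟩ : irr P) = 0 from rfl, map_zero]; exact zero_mem _
      | add x y hx hy ihx ihy =>
        intro hp
        have hx' : x ∈ irr P := by rw [← Submodule.span_generators (irr P)]; exact hx
        have hy' : y ∈ irr P := by rw [← Submodule.span_generators (irr P)]; exact hy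
        rw [show (⟨x + y, hp⟩ : irr P) = ⟨x, hx'⟩ + ⟨y, hy'⟩ from rfl, map_add]
        exact add_mem (ihx hx') (ihy hy')
      | smul r x hx ihx =>
        intro hp
        have hx' : x ∈ irr P := by rw [← Submodule.span_generators (irr P)]; exact hx
        obtain ⟨c, hc⟩ := hmul r ⟨x, hx'⟩
        show D ⟨r * x, hp⟩ ∈ W
        rw [hc]
        exact Submodule.smul_mem _ _ (ihx hx')
    let v : Option M → K × (M → k) := fun o => o.elim (1, 0) fun h => (0, Pi.single h 1)
    have hv : LinearIndependent k v := by
      rw [Fintype.linearIndependent_iff]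
      intro c hc
      rw [Fintype.sum_option] at hc
      have h1 : c none = 0 := by
        have h := congrArg Prod.fst hc
        simpa [v, Prod.fst_sum] using h
      rintro (_ | h)
      · exact h1
      · have h2 := congrArg (fun z : K × (M → k) => z.2 h) hc
        simpa [v, Prod.snd_sum, Finset.sum_apply, Pi.single_apply] using h2
    have hvW : Submodule.span k (Set.range v) ≤ W := by
      rw [Submodule.span_le]
      rintro _ ⟨_ | h, rfl⟩
      · have : D ⟨t, mem_irr.mpr (by simp [ht])⟩ = v none := by
          have h0 : psi P hK t = 0 := by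
            rw [← RingHom.mem_ker, hker]; exact Ideal.mem_span_singleton_self t
          apply Prod.ext
          · simp [D, v, ht]
          · funext h; simp [D, v, h0]
        exact this ▸ hW _
      · have hh : (h : ℕ) ≠ 0 := h.2.2.1
        have hfirr : f h ∈ irr P := mem_irr.mpr (hf0 h (Nat.one_le_iff_ne_zero.mpr hh))
        obtain ⟨q, hq⟩ : ∃ q : k, D ⟨f h, hfirr⟩ = v (some h) + q • v none := by
          have hL := L_one hK hg (P := P) (by simpa using (mem_sectRing P).mp (f h).2 1)
          obtain ⟨c, hc⟩ := exists_eq_algebraMap hK (fun hh => hh (L_zero_le_algebraic hK.1 hL))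
          refine ⟨c, Prod.ext (by simp [D, v, ← hc, Algebra.smul_def]) (funext fun h' => ?_)⟩
          simp [D, v, hf, coeff_monomial, Pi.single_apply, Subtype.ext_iff, eq_comm]
        have ht' : v none ∈ W := by
          have : D ⟨t, mem_irr.mpr (by simp [ht])⟩ = v none := by
            have h0 : psi P hK t = 0 := by
              rw [← RingHom.mem_ker, hker]; exact Ideal.mem_span_singleton_self t
            apply Prod.ext
            · simp [D, v, ht]
            · funext h; simp [D, v, h0]
          exact this ▸ hW _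
        have := sub_mem (hq ▸ hW ⟨f h, hfirr⟩) (W.smul_mem q ht')
        simpa using this
    haveI : Fintype G := hG.fintype
    haveI : Module.Finite k W := Module.Finite.span_of_finite k (Set.toFinite _)
    have h3 := Submodule.finrank_mono hvW
    rw [finrank_span_eq_card hv, Fintype.card_option] at h3
    have h4 : Module.finrank k W ≤ G.ncard := by
      rw [show W = Submodule.span k (Set.range fun x : G => D ⟨x.1, hmemG x.1 x.2⟩) by
        simp only [W, Set.image_univ], ← Nat.card_coe_set_eq, Nat.card_eq_fintype_card]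
      exact finrank_range_le_card _
    rw [Submodule.FG.generators_ncard hfg] at h4
    rw [← Nat.card_coe_set_eq, Nat.card_eq_fintype_card]
    exact h3.trans h4

end Groth.Agent.GrSect6
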