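import Groth.Agent.GrSect6.Away
import Groth.Prelude.Def_W4c6gradedringsgwSect
import Mathlib.RingTheory.Polynomial.Basic

/-!
# Gorenstein numerical semigroup rings are the symmetric ones
-/

set_option autoImplicit false
set_option linter.style.haveILetI false

universe u

namespace Groth.Agent.GrSect6

open Polynomial

variable {k : Type u} [Field k] {S : AddSubmonoid ℕ} {B : Type u} [CommRing B] [Algebra k B]
  {ι : B →ₐ[k] k[X]} (hι : Function.Injective ι)
  (hB : ∀ p : k[X], p ∈ Set.range ι ↔ ∀ n, p.coeff n ≠ 0 → n ∈ S)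

include hB in
theorem sg_monomial_mem {n : ℕ} (hn : n ∈ S) (c : k) : monomial n c ∈ Set.range ι := by
  rw [hB]
  intro m hm
  rw [coeff_monomial] at hm
  split_ifs at hm with h
  · exact h ▸ hn
  · exact absurd rfl hm

/-- A monomial of a semigroup ring. -/
noncomputable def mono {n : ℕ} (hn : n ∈ S) (c : k) : B := (sg_monomial_mem hB hn c).choose

@[simp] theorem ι_mono {n : ℕ} (hn : n ∈ S) (c : k) : ι (mono hB hn c) = monomial n c :=
  (sg_monomial_mem hB hn c).choose_spec

include hB in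
theorem mem_S_of_coeff (p : B) {n : ℕ} (hn : (ι p).coeff n ≠ 0) : n ∈ S := (hB _).1 ⟨p, rfl⟩ n hn

variable (ι) in
/-- The irrelevant ideal of a semigroup ring. -/
noncomputable abbrev sgIrr : Ideal B := RingHom.ker (Polynomial.constantCoeff.comp ι.toRingHom)

theorem mem_sgIrr {p : B} : p ∈ sgIrr ι ↔ (ι p).coeff 0 = 0 := Iff.rfl

theorem sgIrr_isMaximal : (sgIrr ι).IsMaximal := by
  refine RingHom.ker_isMaximal_of_surjective _ fun c => ⟨algebraMap k B c, ?_⟩
  simp

variable {e : ℕ} (he : e ∈ S) (he0 : 0 < e) (f : B) (hf : ι f = X ^ e)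

include hι hB hf in
theorem mem_span_iff (p : B) :
    p ∈ Ideal.span {f} ↔ ∀ n, (ι p).coeff n ≠ 0 → e ≤ n ∧ n - e ∈ S := by
  constructor
  · rintro h n hn
    obtain ⟨q, rfl⟩ := Ideal.mem_span_singleton'.1 h
    rw [map_mul, hf, coeff_mul_X_pow'] at hn
    split_ifs at hn with h
    · exact ⟨h, mem_S_of_coeff hB q hn⟩
    · exact absurd rfl hn
  · intro h
    refine Ideal.mem_span_singleton'.2
      ⟨∑ n ∈ (ι p).support.attach, mono hB (h _ (mem_support_iff.1 n.2)).2 ((ι p).coeff n.1), hι ?_⟩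
    rw [map_mul, map_sum, hf, Finset.sum_mul]
    simp only [ι_mono]
    refine Eq.trans ?_ (as_sum_support (ι p)).symm
    rw [← Finset.sum_attach (ι p).support fun n => monomial n ((ι p).coeff n)]
    refine Finset.sum_congr rfl fun n _ => ?_
    show monomial (n.1 - e) _ * X ^ e = _
    rw [X_pow_eq_monomial, monomial_mul_monomial, mul_one, Nat.sub_add_cancel (h _ (mem_support_iff.1 n.2)).1]

include hι hB in
theorem eq_sum_monomial (p : B) :
    p = ∑ n ∈ (ι p).support.attach,
      mono hB (mem_S_of_coeff hB p (mem_support_iff.1 n.2)) ((ι p).coeff n.1) := by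
  apply hι
  rw [map_sum]
  simp only [ι_mono]
  show (ι p) = ∑ n ∈ (ι p).support.attach, monomial n.1 ((ι p).coeff n.1)
  rw [Finset.sum_attach (ι p).support fun n => monomial n ((ι p).coeff n)]
  exact as_sum_support _

include hι hB he hf in
theorem sgIrr_le_radical : sgIrr ι ≤ (Ideal.span {f}).radical := by
  intro p hp
  rw [eq_sum_monomial hι hB p]
  refine sum_mem fun n _ => ?_
  rcases Nat.eq_zero_or_pos n.1 with h | h
  · exact absurd (h ▸ mem_sgIrr.1 hp) (mem_support_iff.1 n.2)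
  refine ⟨e, (mem_span_iff hι hB f hf _).2 fun m hm => ?_⟩
  rw [map_pow, ι_mono] at hm
  simp only [monomial_pow, coeff_monomial] at hm
  split_ifs at hm with h'
  · subst h'
    refine ⟨Nat.le_mul_of_pos_left e h, ?_⟩
    rw [show n.1 * e - e = (n.1 - 1) • e by rw [smul_eq_mul, Nat.sub_one_mul]]
    exact AddSubmonoid.nsmul_mem _ he _
  · exact absurd rfl hm

include he0 hf in
theorem span_le_sgIrr : Ideal.span {f} ≤ sgIrr ι := by
  rw [Ideal.span_singleton_le_iff_mem, mem_sgIrr, hf, coeff_X_pow, if_neg (by omega)]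

include hι hB he hf in
theorem eq_sgIrr_of_mem (q : Ideal B) [hq : q.IsPrime] (hfq : f ∈ q) : q = sgIrr ι :=
  ((sgIrr_isMaximal (ι := ι)).eq_of_le hq.ne_top ((sgIrr_le_radical hι hB he f hf).trans
    (hq.radical_le_iff.2 ((Ideal.span_singleton_le_iff_mem _).2 hfq)))).symm

include hι hB he he0 hf in
theorem isLocalRing_quot : IsLocalRing (B ⧸ Ideal.span {f}) := by
  haveI := sgIrr_isMaximal (ι := ι)
  have hle := span_le_sgIrr he0 f hf
  refine IsLocalRing.of_unique_max_ideal
    ⟨(sgIrr ι).map (Ideal.Quotient.mk _), ?_, fun J hJ => ?_⟩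
  · exact (Ideal.IsMaximal.map_of_surjective_of_ker_le Ideal.Quotient.mk_surjective (by rw [Ideal.mk_ker]; exact hle))
  · haveI := hJ
    have h := eq_sgIrr_of_mem hι hB he f hf (J.comap (Ideal.Quotient.mk _)) (by
      rw [Ideal.mem_comap, Ideal.Quotient.eq_zero_iff_mem.2 (Ideal.mem_span_singleton_self f)]
      exact J.zero_mem)
    rw [← h, Ideal.map_comap_of_surjective _ Ideal.Quotient.mk_surjective]

include hι hB he he0 hf in
theorem mem_maximal_quot [IsLocalRing (B ⧸ Ideal.span {f})] (p : B) :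
    Ideal.Quotient.mk (Ideal.span {f}) p ∈ IsLocalRing.maximalIdeal (B ⧸ Ideal.span {f}) ↔ p ∈ sgIrr ι := by
  have h := eq_sgIrr_of_mem hι hB he f hf ((IsLocalRing.maximalIdeal (B ⧸ Ideal.span {f})).comap (Ideal.Quotient.mk _)) (by
    rw [Ideal.mem_comap, Ideal.Quotient.eq_zero_iff_mem.2 (Ideal.mem_span_singleton_self f)]
    exact zero_mem _)
  rw [← h, Ideal.mem_comap]

variable [IsNoetherianRing B]

include hι hB he he0 hf in
theorem gorenstein_quot_iff (hc : ∃ c, ∀ n, c ≤ n → n ∈ S) [IsLocalRing (B ⧸ Ideal.span {f})] :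
    LocCoh.IsGorensteinLocalRing (B ⧸ Ideal.span {f}) ↔ W4c6gradedringsgw.IsSymmetric (S : Set ℕ) := by
  classical
  obtain ⟨c, hc⟩ := hc
  let I := Ideal.span {f}
  have hnil : IsNilpotent (IsLocalRing.maximalIdeal (B ⧸ I)) := by
    obtain ⟨N, hN⟩ := Ideal.exists_pow_le_of_le_radical_of_fg (sgIrr_le_radical hι hB he f hf) (IsNoetherian.noetherian _)
    refine ⟨N, ?_⟩
    have hmax : IsLocalRing.maximalIdeal (B ⧸ I) = (sgIrr ι).map (Ideal.Quotient.mk I) := by
      refine le_antisymm (fun z hz => ?_) ?_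
      · obtain ⟨p, rfl⟩ := Ideal.Quotient.mk_surjective z
        exact Ideal.mem_map_of_mem _ ((mem_maximal_quot hι hB he he0 f hf p).1 hz)
      · rw [Ideal.map_le_iff_le_comap]
        exact fun p hp => (mem_maximal_quot hι hB he he0 f hf p).2 hp
    rw [hmax, Ideal.zero_eq_bot]
    exact (Ideal.map_pow (Ideal.Quotient.mk I) (sgIrr ι) N).symm.trans
      ((Ideal.map_eq_bot_iff_le_ker _).2 (hN.trans Ideal.mk_ker.ge))
  have hz : ∀ p : B, Ideal.Quotient.mk I p = 0 ↔ ∀ n, (ι p).coeff n ≠ 0 → e ≤ n ∧ n - e ∈ S :=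
    fun p => Ideal.Quotient.eq_zero_iff_mem.trans (mem_span_iff hι hB f hf p)
  let mn : ∀ n ∈ S, B := fun n hn => mono hB hn 1
  have hmn0 : ∀ n (hn : n ∈ S), Ideal.Quotient.mk I (mn n hn) = 0 ↔ e ≤ n ∧ n - e ∈ S := by
    intro n hn
    rw [hz]
    refine ⟨fun h => h n (by simp [mn]), fun h m hm => ?_⟩
    simp only [mn, ι_mono, coeff_monomial] at hm
    split_ifs at hm with h'
    · exact h' ▸ h
    · exact absurd rfl hm
  constructor
  · intro hG
    -- the largest element of the Apery set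
    let Ap := (Finset.range (c + e)).filter fun n => n ∈ S ∧ ¬ (e ≤ n ∧ n - e ∈ S)
    have hAp : ∀ n, n ∈ Ap ↔ n ∈ S ∧ ¬ (e ≤ n ∧ n - e ∈ S) := fun n => by
      simp only [Ap, Finset.mem_filter, Finset.mem_range, and_iff_right_iff_imp]
      rintro ⟨h1, h2⟩
      by_contra h3
      exact h2 ⟨by omega, hc _ (by omega)⟩
    have h0 : 0 ∈ Ap := (hAp 0).2 ⟨zero_mem _, by omega⟩
    let w := Ap.max' ⟨0, h0⟩
    have hwAp := (hAp w).1 (Ap.max'_mem ⟨0, h0⟩)
    have soc : ∀ a (ha : a ∈ S), (∀ h ∈ S, 0 < h → e ≤ a + h ∧ a + h - e ∈ S) →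
        ∀ r ∈ IsLocalRing.maximalIdeal (B ⧸ I), r * Ideal.Quotient.mk I (mn a ha) = 0 := by
      intro a ha hmaxa r hr
      obtain ⟨p, rfl⟩ := Ideal.Quotient.mk_surjective r
      rw [mem_maximal_quot hι hB he he0 f hf, mem_sgIrr] at hr
      rw [← map_mul, hz]
      intro n hn
      simp only [map_mul, mn, ι_mono] at hn
      rw [← X_pow_eq_monomial, coeff_mul_X_pow'] at hn
      split_ifs at hn with h
      · have hS := mem_S_of_coeff hB p hn
        have hpos : 0 < n - a := by
          by_contra h'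
          rw [show n - a = 0 by omega] at hn
          exact hn hr
        have := hmaxa _ hS hpos
        rwa [Nat.add_sub_cancel' h] at this
      · exact absurd rfl hn
    have hwmax : ∀ h ∈ S, 0 < h → e ≤ w + h ∧ w + h - e ∈ S := by
      intro h hh hpos
      by_contra hne
      have := Ap.le_max' _ ((hAp (w + h)).2 ⟨add_mem hwAp.1 hh, hne⟩)
      omega
    have hs0 : Ideal.Quotient.mk I (mn w hwAp.1) ≠ 0 := fun h => hwAp.2 ((hmn0 _ _).1 h)
    haveI := hG
    obtain ⟨-, hsoc⟩ := LC.socle_of_gorenstein hs0 (soc w hwAp.1 hwmax)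
    have hsub : ∀ a, a ∈ S → ¬ (e ≤ a ∧ a - e ∈ S) → ∃ h ∈ S, a + h = w := by
      intro a ha haA
      let T := Ap.filter fun b => ∃ h ∈ S, a + h = b
      have hT : T.Nonempty := ⟨a, Finset.mem_filter.2 ⟨(hAp a).2 ⟨ha, haA⟩, 0, zero_mem _, add_zero a⟩⟩
      obtain ⟨hb1, h, hh, hab⟩ := Finset.mem_filter.1 (T.max'_mem hT)
      set b := T.max' hT with hbdef
      have hbS := ((hAp b).1 hb1).1
      have hbmax : ∀ h' ∈ S, 0 < h' → e ≤ b + h' ∧ b + h' - e ∈ S := by
        intro h' hh' hpos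
        by_contra hne
        have := T.le_max' (b + h') (Finset.mem_filter.2
          ⟨(hAp _).2 ⟨add_mem hbS hh', hne⟩, h + h', add_mem hh hh', by omega⟩)
        omega
      obtain ⟨u, hu⟩ := hsoc (Ideal.Quotient.mk I (mn b hbS)) (soc b hbS hbmax)
      obtain ⟨p, rfl⟩ := Ideal.Quotient.mk_surjective u
      rw [← map_mul, ← sub_eq_zero, ← map_sub, hz] at hu
      refine ⟨h, hh, ?_⟩
      by_contra hbw
      rw [hab] at hbw
      by_cases hcoef : (ι (mn b hbS - p * mn w hwAp.1)).coeff b = 0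
      · simp only [map_sub, map_mul, mn, ι_mono, coeff_sub, coeff_monomial, if_pos] at hcoef
        rw [← X_pow_eq_monomial, coeff_mul_X_pow'] at hcoef
        split_ifs at hcoef with h'
        · have hne : (ι p).coeff (b - w) ≠ 0 := by
            intro h0; rw [h0, sub_zero] at hcoef; exact one_ne_zero hcoef
          have := hwmax _ (mem_S_of_coeff hB p hne) (by omega)
          rw [Nat.add_sub_cancel' h'] at this
          exact ((hAp b).1 hb1).2 this
        · simp at hcoef
      · exact ((hAp b).1 hb1).2 (hu b hcoef)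
    refine ⟨(w : ℤ) - e, fun n => ⟨?_, fun hn => ?_⟩⟩
    · rintro ⟨h, hh, rfl⟩ ⟨h', hh', he'⟩
      have hsum : h + h' + e = w := by omega
      exact hwAp.2 ⟨by omega, by rw [show w - e = h + h' by omega]; exact add_mem hh hh'⟩
    · by_contra hnS
      have hex : ∃ j : ℕ, ∃ a ∈ S, (a : ℤ) = n + j * e := by
        refine ⟨(c : ℕ) + n.natAbs, (n + ((c + n.natAbs : ℕ) : ℤ) * e).toNat, hc _ ?_, ?_⟩
        · have h1 : ((c + n.natAbs : ℕ) : ℤ) ≤ ((c + n.natAbs : ℕ) : ℤ) * e := le_mul_of_one_le_right (by omega) (by omega)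
          omega
        · have h1 : ((c + n.natAbs : ℕ) : ℤ) ≤ ((c + n.natAbs : ℕ) : ℤ) * e := le_mul_of_one_le_right (by omega) (by omega)
          omega
      obtain ⟨a, haS, ha⟩ := Nat.find_spec hex
      set j := Nat.find hex with hj
      have hj0 : j ≠ 0 := by
        intro h0
        apply hnS
        exact ⟨a, haS, by rw [ha, h0]; simp⟩
      have hjj : ((j - 1 : ℕ) : ℤ) * e = (j : ℤ) * e - e := by
        rw [Nat.cast_sub (by omega), Nat.cast_one, sub_mul, one_mul]
      obtain ⟨h, hh, hah⟩ := hsub a haS fun ⟨h1, h2⟩ =>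
        Nat.find_min hex (m := j - 1) (by omega) ⟨a - e, h2, by rw [Nat.cast_sub h1, hjj]; omega⟩
      refine hn ⟨h + (j - 1) • e, add_mem hh (AddSubmonoid.nsmul_mem _ he _), ?_⟩
      rw [smul_eq_mul, Nat.cast_add, Nat.cast_mul, hjj]
      omega
  · rintro ⟨d, hd⟩
    have hdS : ¬ ∃ h ∈ (S : Set ℕ), (h : ℤ) = d := by
      have h1 := (hd 0).1 ⟨0, zero_mem _, rfl⟩
      simpa using h1
    obtain ⟨w, hwS, hw⟩ : ∃ w ∈ (S : Set ℕ), (w : ℤ) = d + e := by
      refine (hd _).2 ?_
      rintro ⟨h, hh, hhe⟩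
      omega
    have hwA : ¬ (e ≤ w ∧ w - e ∈ S) := fun ⟨h1, h2⟩ => hdS ⟨w - e, h2, by rw [Nat.cast_sub h1]; omega⟩
    have hpos : ∀ h ∈ S, 0 < h → e ≤ w + h ∧ w + h - e ∈ S := by
      intro h hh hh0
      obtain ⟨a, ha, hae⟩ : ∃ a ∈ (S : Set ℕ), (a : ℤ) = d + h := by
        refine (hd _).2 ?_
        rintro ⟨b, hb, hbe⟩
        omega
      refine ⟨by omega, ?_⟩
      rw [show w + h - e = a by omega]; exact ha
    refine LC.gorenstein_of_socle (s := Ideal.Quotient.mk I (mn w hwS)) hnil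
      (fun h => hwA ((hmn0 _ _).1 h)) (fun r hr => ?_) fun t ht => ?_
    · obtain ⟨p, rfl⟩ := Ideal.Quotient.mk_surjective r
      rw [mem_maximal_quot hι hB he he0 f hf, mem_sgIrr] at hr
      rw [← map_mul, hz]
      intro n hn
      simp only [map_mul, mn, ι_mono] at hn
      rw [← X_pow_eq_monomial, coeff_mul_X_pow'] at hn
      split_ifs at hn with h
      · have hS := mem_S_of_coeff hB p hn
        have hp0 : 0 < n - w := by
          by_contra h'
          rw [show n - w = 0 by omega] at hn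
          exact hn hr
        have := hpos _ hS hp0
        rwa [Nat.add_sub_cancel' h] at this
      · exact absurd rfl hn
    · obtain ⟨p, rfl⟩ := Ideal.Quotient.mk_surjective t
      refine ⟨Ideal.Quotient.mk I (algebraMap k B ((ι p).coeff w)), ?_⟩
      rw [← map_mul, ← sub_eq_zero, ← map_sub, hz]
      intro n hn
      simp only [map_sub, map_mul, AlgHom.commutes, ι_mono, Polynomial.algebraMap_apply,
        Algebra.algebraMap_self, RingHom.id_apply, mn, C_mul_monomial, mul_one, coeff_sub, coeff_monomial] at hn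
      rcases eq_or_ne w n with rfl | hne
      · simp at hn
      rw [if_neg hne, sub_zero] at hn
      by_contra hA
      have hnS := mem_S_of_coeff hB p hn
      obtain ⟨h, hh, hhe⟩ : ∃ h ∈ (S : Set ℕ), (h : ℤ) = (w : ℤ) - n := by
        by_contra hno
        have h2 := (hd ((n : ℤ) - e)).2 (by
          rintro ⟨h, hh, hhe⟩
          exact hno ⟨h, hh, by omega⟩)
        obtain ⟨b, hb, hbe⟩ := h2
        exact hA ⟨by omega, by rw [show n - e = b by omega]; exact hb⟩
      have hh0 : 0 < h := by omega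
      have hm : Ideal.Quotient.mk I (mn h hh) ∈ IsLocalRing.maximalIdeal (B ⧸ I) := by
        rw [mem_maximal_quot hι hB he he0 f hf, mem_sgIrr]
        simp [mn, coeff_monomial]; omega
      have h3 := ht _ hm
      rw [← map_mul, hz] at h3
      refine hwA (h3 w ?_)
      simp only [map_mul, mn, ι_mono]
      rw [← X_pow_eq_monomial, coeff_X_pow_mul', if_pos (by omega), show w - h = n by omega]
      exact hn

/-- Kunz: a numerical semigroup ring is Gorenstein iff the semigroup is symmetric. -/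
theorem gorenstein_iff_symmetric (hι : Function.Injective ι)
    (hB : ∀ p : k[X], p ∈ Set.range ι ↔ ∀ n, p.coeff n ≠ 0 → n ∈ S)
    (hc : ∃ c, ∀ n, c ≤ n → n ∈ S) :
    LocCoh.IsGorensteinRing B ↔ W4c6gradedringsgw.IsSymmetric (S : Set ℕ) := by
  obtain ⟨c, hc⟩ := hc
  have he : c + 1 ∈ S := hc _ (by omega)
  let e := c + 1
  have he0 : 0 < e := Nat.succ_pos _
  let f : B := mono hB he 1
  have hf : ι f = X ^ e := by rw [ι_mono, X_pow_eq_monomial]
  haveI := isLocalRing_quot hι hB he he0 f hf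
  have key := gorenstein_quot_iff hι hB he he0 f hf ⟨c, hc⟩
  have hreg : IsSMulRegular B f := fun a b h => by
    have hf0 : f ≠ 0 := fun h0 => pow_ne_zero e (X_ne_zero (R := k)) (hf.symm.trans ((congrArg ι h0).trans (map_zero ι)))
    haveI : IsDomain B := Function.Injective.isDomain ι.toRingHom hι
    exact mul_left_cancel₀ hf0 h
  constructor
  · intro hG
    refine key.1 ?_
    haveI := LC.gorensteinRing_of_surjective (Ideal.Quotient.mk (Ideal.span {f})) Ideal.Quotient.mk_surjective hreg Ideal.mk_ker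
    exact gorensteinLocal_of_ring (B ⧸ Ideal.span {f})
  · intro hsym
    haveI := key.2 hsym
    refine gorensteinRing_of_quotient (Ideal.Quotient.mk (Ideal.span {f})) Ideal.Quotient.mk_surjective hreg
      Ideal.mk_ker (LC.gorensteinRing_of_local _) fun p _ hp => ?_
    haveI : LocCoh.IsGorensteinRing k[X] := LC.gorensteinRing_of_isRegularRing _
    refine gorenstein_atPrime_of_pow_mem ι.toRingHom hι f (fun z => ?_) p hp
    obtain ⟨r, hr⟩ := (hB (z * X ^ (c * e))).2 (by
      intro n hn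
      rw [coeff_mul_X_pow'] at hn
      split_ifs at hn with h
      · exact hc n ((Nat.le_mul_of_pos_right c he0).trans h)
      · exact absurd rfl hn)
    refine ⟨c, r, ?_⟩
    show ι r = ι f ^ c * z
    rw [hr, hf, ← pow_mul, mul_comm e c, mul_comm]

/-- A ring which is a deformation of a semigroup ring along a nonzerodivisor. -/
theorem gorenstein_iff_of_semigroup_quotient {T : Type u} [CommRing T] [Algebra k T] [IsNoetherianRing T]
    (ψ : T →ₐ[k] k[X]) (t : T) (hker : RingHom.ker ψ = Ideal.span {t}) (hreg : IsSMulRegular T t)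
    (hB : ∀ q : k[X], q ∈ Set.range ψ ↔ ∀ n, q.coeff n ≠ 0 → n ∈ S)
    (hc : ∃ c, ∀ n, c ≤ n → n ∈ S)
    (hout : ∀ (p : Ideal T) [p.IsPrime], t ∉ p → LocCoh.IsGorensteinLocalRing (Localization.AtPrime p)) :
    LocCoh.IsGorensteinRing T ↔ W4c6gradedringsgw.IsSymmetric (S : Set ℕ) := by
  rw [gorensteinRing_iff_quotient T t hreg hout]
  refine gorenstein_iff_symmetric
    (ι := Ideal.Quotient.liftₐ (Ideal.span {t}) ψ fun z hz => RingHom.mem_ker.1 (hker.ge hz)) ?_ ?_ hc
  · rw [injective_iff_map_eq_zero]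
    intro z hz
    obtain ⟨z, rfl⟩ := Ideal.Quotient.mk_surjective z
    exact Ideal.Quotient.eq_zero_iff_mem.2 (hker.le (RingHom.mem_ker.2 hz))
  · intro q
    rw [← hB]
    refine ⟨?_, fun ⟨z, hz⟩ => ⟨Ideal.Quotient.mk _ z, hz⟩⟩
    rintro ⟨z, rfl⟩
    obtain ⟨z, rfl⟩ := Ideal.Quotient.mk_surjective z
    exact ⟨z, rfl⟩

end Groth.Agent.GrSect6
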