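import Groth.Agent.GrSect6.Basic
import Groth.Agent.GrSect6.Kunz
import Groth.Agent.FFLib.RR
import Mathlib.RingTheory.DedekindDomain.Basic
import Mathlib.RingTheory.RegularLocalRing.Polynomial
import Mathlib.RingTheory.Adjoin.FG
import Mathlib.RingTheory.Artinian.Ring

/-!
# When the section ring of a point is Gorenstein
-/

set_option autoImplicit false
set_option linter.style.haveILetI false

universe u

namespace Groth.Agent.GrSect6

open FunFld WithZero Polynomial W4c6gradedringsgw FFLib

variable {k K : Type u} [Field k] [Field K] [Algebra k K] {P : Place k K}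

theorem mem_L_single {n : ℤ} {x : K} :
    x ∈ L (Finsupp.single P n : Divisor k K) ↔ (∀ Q, Q ≠ P → Q.1 x ≤ 1) ∧ P.1 x ≤ exp n := by
  classical
  refine ⟨fun h => ⟨fun Q hQ => ?_, by simpa using h P⟩, fun h Q => ?_⟩
  · simpa [hQ] using h Q
  · rcases eq_or_ne Q P with rfl | hQ
    · simpa using h.2
    · simpa [hQ] using h.1 Q hQ

theorem L_single_mono {m n : ℤ} (h : m ≤ n) :
    L (Finsupp.single P m : Divisor k K) ≤ L (Finsupp.single P n) :=
  L_mono (Finsupp.single_le_single.mpr h)

theorem val_eq_of_not_mem {n : ℤ} {x : K} (hx : x ∈ L (Finsupp.single P n : Divisor k K))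
    (hx' : x ∉ L (Finsupp.single P (n - 1))) : P.1 x = exp n := by
  refine le_antisymm (mem_L_single.1 hx).2 (le_of_not_gt fun h => hx' ?_)
  exact mem_L_single.2 ⟨(mem_L_single.1 hx).1, (lt_exp_iff_le_exp_pred _ _ _).1 h⟩

theorem mul_mem_L_single {a b : ℤ} {x y : K} (hx : x ∈ L (Finsupp.single P a : Divisor k K))
    (hy : y ∈ L (Finsupp.single P b : Divisor k K)) : x * y ∈ L (Finsupp.single P (a + b) : Divisor k K) := by
  rw [Finsupp.single_add]; exact mul_mem_L hx hy

variable (P) in
/-- Functions regular outside `P`. -/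
def affRing : Subalgebra k K where
  carrier := {x | ∀ Q : Place k K, Q ≠ P → Q.1 x ≤ 1}
  mul_mem' {x y} hx hy Q hQ := by rw [map_mul]; exact mul_le_one' (hx Q hQ) (hy Q hQ)
  add_mem' {x y} hx hy Q hQ := (Q.1.map_add x y).trans (max_le (hx Q hQ) (hy Q hQ))
  algebraMap_mem' c Q _ := Q.2.1 c

theorem exists_mem_L_of_mem_affRing {x : K} (hx : x ∈ affRing P) :
    ∃ n : ℕ, x ∈ L (Finsupp.single P (n : ℤ) : Divisor k K) := by
  refine ⟨(log (P.1 x)).toNat, mem_L_single.2 ⟨hx, ?_⟩⟩
  rcases eq_or_ne (P.1 x) 0 with h | h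
  · rw [h]; exact zero_le'
  · rw [← exp_log h, exp_le_exp]
    simp only [log_exp]
    omega

theorem mem_affRing_of_mem_L {n : ℤ} {x : K} (hx : x ∈ L (Finsupp.single P n : Divisor k K)) :
    x ∈ affRing P := (mem_L_single.1 hx).1

variable [IsAlgClosed k] (hK : IsFunctionField k K)

include hK in
theorem exists_exact {n : ℕ} (hn : n ∈ poleOrders P) :
    ∃ x ∈ L (Finsupp.single P (n : ℤ) : Divisor k K), x ∉ L (Finsupp.single P ((n : ℤ) - 1)) := by
  by_contra h
  push Not at h
  obtain ⟨p, hp, -⟩ := exists_psi_eq hK hn (1 : k)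
  have h1 : (psi P hK p).coeff n = 0 := (psi_coeff_eq_zero P hK p n).2 (h _ ((mem_sectRing P).mp p.2 n))
  rw [hp, coeff_monomial, if_pos rfl] at h1
  exact one_ne_zero h1

include hK in
theorem exists_sub_mem {n : ℕ} {x : K} (hx : x ∈ L (Finsupp.single P (n : ℤ) : Divisor k K))
    (hx' : x ∉ L (Finsupp.single P ((n : ℤ) - 1))) {y : K} (hy : y ∈ L (Finsupp.single P (n : ℤ) : Divisor k K)) :
    ∃ c : k, y - c • x ∈ L (Finsupp.single P ((n : ℤ) - 1) : Divisor k K) := by
  have hd : (psi P hK (monom n x hx)).coeff n ≠ 0 := fun h => hx' (by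
    simpa [monom] using (psi_coeff_eq_zero P hK _ n).1 h)
  set c := (psi P hK (monom n y hy)).coeff n / (psi P hK (monom n x hx)).coeff n
  refine ⟨c, ?_⟩
  have h0 : (psi P hK (monom n y hy - c • monom n x hx)).coeff n = 0 := by
    rw [map_sub, map_smul, coeff_sub, coeff_smul, smul_eq_mul, div_mul_cancel₀ _ hd, sub_self]
  simpa [monom] using (psi_coeff_eq_zero P hK _ n).1 h0

include hK in
theorem mem_poleOrders_of_ge {n : ℕ} (hn : 2 * genus k K ≤ n) : n ∈ poleOrders P := by
  have hd := deg_eq_one hK.1 P
  show ell _ = ell _ + 1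
  rw [smul_single, smul_single]
  have h1 := ell_of_deg_gt hK (D := Finsupp.single P (n : ℤ)) (by rw [Divisor.deg_single, hd]; push_cast; omega)
  have h2 := ell_of_deg_gt hK (D := Finsupp.single P ((n : ℤ) - 1)) (by rw [Divisor.deg_single, hd]; push_cast; omega)
  rw [Divisor.deg_single, hd] at h1 h2
  push_cast at h1 h2
  omega

variable (P) in
/-- The degree one element `1·T`. -/
noncomputable def tT : sectRing (Finsupp.single P 1 : Divisor k K) :=
  monom 1 1 (mem_L_single.2 ⟨fun Q _ => by simp, by rw [map_one, ← exp_zero, exp_le_exp]; norm_num⟩)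

theorem coe_tT : ((tT P : sectRing (Finsupp.single P 1 : Divisor k K)) : K[X]) = C (1 : K) * X := by
  simp [tT, monom, monomial_one_one_eq_X]

include hK in
theorem finiteType_sectRing : Algebra.FiniteType k (sectRing (Finsupp.single P 1 : Divisor k K)) := by
  classical
  let T := sectRing (Finsupp.single P 1 : Divisor k K)
  let M := minGens (poleOrders P)
  haveI : Fintype M := (minGens_finite hK).fintype
  choose g hgL hgx using fun h : M => exists_exact hK h.2.1
  let G : Finset T := insert (tT P) (Finset.univ.image fun h : M => monom (h : ℕ) (g h) (hgL h))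
  refine ⟨⟨G, top_le_iff.1 fun p _ => ?_⟩⟩
  let A' := Algebra.adjoin k (G : Set T)
  have hexact : ∀ n, n ∈ poleOrders P → n ≠ 0 →
      ∃ (x : K) (hx : x ∈ L (Finsupp.single P (n : ℤ) : Divisor k K)),
        x ∉ L (Finsupp.single P ((n : ℤ) - 1) : Divisor k K) ∧ monom n x hx ∈ A' := by
    intro n
    induction n using Nat.strong_induction_on with
    | _ n ih =>
    intro hn hn0
    by_cases hM : n ∈ M
    · exact ⟨g ⟨n, hM⟩, hgL ⟨n, hM⟩, hgx ⟨n, hM⟩,
        Algebra.subset_adjoin (Finset.mem_insert_of_mem (Finset.mem_image.2 ⟨⟨n, hM⟩, Finset.mem_univ _, rfl⟩))⟩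
    · simp only [M, minGens, Set.mem_setOf_eq, hn, hn0, ne_eq, not_false_eq_true, true_and, not_forall,
        not_not, exists_prop] at hM
      obtain ⟨a, ha, b, hb, ha0, hb0, hab⟩ := hM
      obtain ⟨x, hx, hx', hxA⟩ := ih a (by omega) ha ha0
      obtain ⟨y, hy, hy', hyA⟩ := ih b (by omega) hb hb0
      subst hab
      have hxy : x * y ∈ L (Finsupp.single P (((a + b : ℕ)) : ℤ) : Divisor k K) := by
        push_cast; exact mul_mem_L_single hx hy
      refine ⟨x * y, hxy, fun h => ?_, ?_⟩
      · have h2 := (mem_L_single.1 h).2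
        rw [map_mul, val_eq_of_not_mem hx hx', val_eq_of_not_mem hy hy', ← exp_add, exp_le_exp] at h2
        omega
      · have : monom (a + b) (x * y) hxy = monom a x hx * monom b y hy :=
          Subtype.ext (monomial_mul_monomial a b x y).symm
        rw [this]; exact mul_mem hxA hyA
  have hmon : ∀ n : ℕ, ∀ (y : K) (hy : y ∈ L (Finsupp.single P (n : ℤ) : Divisor k K)), monom n y hy ∈ A' := by
    intro n
    induction n with
    | zero =>
      intro y hy
      have hy0 : y ∈ L (0 : Divisor k K) := by simpa using hy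
      obtain ⟨c, hc⟩ := exists_eq_algebraMap hK (fun h => h (L_zero_le_algebraic hK.1 hy0))
      have : monom 0 y hy = algebraMap k T c :=
        Subtype.ext (by simp [monom, ← hc, Polynomial.algebraMap_apply])
      rw [this]; exact Subalgebra.algebraMap_mem _ c
    | succ n ih =>
      have low : ∀ (y : K) (hy : y ∈ L (Finsupp.single P (((n + 1 : ℕ)) : ℤ) : Divisor k K)),
          y ∈ L (Finsupp.single P ((((n + 1 : ℕ)) : ℤ) - 1) : Divisor k K) → monom (n + 1) y hy ∈ A' := by
        intro y hy hy'
        have hyn : y ∈ L (Finsupp.single P (n : ℤ) : Divisor k K) := by simpa using hy'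
        have : monom (n + 1) y hy = tT P * monom n y hyn := Subtype.ext (by
          rw [Subalgebra.coe_mul, coe_tT, map_one, one_mul]
          exact (X_mul_monomial n y).symm)
        rw [this]
        exact mul_mem (Algebra.subset_adjoin (Finset.mem_insert_self _ _)) (ih y hyn)
      intro y hy
      by_cases hn : n + 1 ∈ poleOrders P
      · obtain ⟨x, hx, hx', hxA⟩ := hexact _ hn (by omega)
        obtain ⟨c, hc⟩ := exists_sub_mem hK hx hx' hy
        have hmem := sub_mem hy (Submodule.smul_mem _ c hx)
        have : monom (n + 1) y hy = monom (n + 1) (y - c • x) hmem + c • monom (n + 1) x hx :=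
          Subtype.ext (by
            show monomial (n + 1) y = monomial (n + 1) (y - c • x) + c • monomial (n + 1) x
            rw [smul_monomial, ← map_add, sub_add_cancel])
        rw [this]
        exact add_mem (low _ hmem hc) (Subalgebra.smul_mem _ hxA c)
      · refine low y hy ?_
        have h0 := psi_coeff_eq_zero_of_not_mem hK (monom (n + 1) y hy) hn
        simpa [monom] using (psi_coeff_eq_zero P hK _ (n + 1)).1 h0
  have hp : p = ∑ n ∈ (p : K[X]).support, monom n ((p : K[X]).coeff n) ((mem_sectRing P).mp p.2 n) := by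
    apply Subtype.ext
    rw [AddSubmonoidClass.coe_finsetSum]
    exact as_sum_support (p : K[X])
  rw [hp]
  exact sum_mem fun n _ => hmon n _ _

include hK in
theorem isNoetherianRing_sectRing : IsNoetherianRing (sectRing (Finsupp.single P 1 : Divisor k K)) :=
  haveI := finiteType_sectRing (P := P) hK
  Algebra.FiniteType.isNoetherianRing k _

theorem coeff_mem_affRing (p : sectRing (Finsupp.single P 1 : Divisor k K)) :
    ((p : K[X]).coeffs : Set K) ⊆ (affRing P).toSubring := by
  intro c hc
  obtain ⟨n, -, rfl⟩ := Polynomial.mem_coeffs_iff.mp hc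
  exact mem_affRing_of_mem_L ((mem_sectRing P).mp p.2 n)

variable (P) in
/-- The inclusion of the section ring in the polynomial ring over the affine ring. -/
noncomputable def toAffPoly : sectRing (Finsupp.single P 1 : Divisor k K) →+* Polynomial (affRing P).toSubring where
  toFun p := (p : K[X]).toSubring _ (coeff_mem_affRing p)
  map_one' := by
    apply map_injective (affRing P).toSubring.subtype Subtype.val_injective
    exact (map_toSubring _ _ _).trans (by simp)
  map_mul' p q := by
    apply map_injective (affRing P).toSubring.subtype Subtype.val_injective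
    refine (map_toSubring _ _ _).trans ?_
    rw [Subalgebra.coe_mul]
    refine Eq.trans ?_ (Polynomial.map_mul _).symm
    rw [map_toSubring, map_toSubring]
  map_zero' := by
    apply map_injective (affRing P).toSubring.subtype Subtype.val_injective
    exact (map_toSubring _ _ _).trans (by simp)
  map_add' p q := by
    apply map_injective (affRing P).toSubring.subtype Subtype.val_injective
    refine (map_toSubring _ _ _).trans ?_
    rw [Subalgebra.coe_add]
    refine Eq.trans ?_ (Polynomial.map_add _).symm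
    rw [map_toSubring, map_toSubring]

theorem map_toAffPoly (p : sectRing (Finsupp.single P 1 : Divisor k K)) :
    (toAffPoly P p).map (affRing P).toSubring.subtype = (p : K[X]) :=
  map_toSubring _ _ (coeff_mem_affRing p)

theorem toAffPoly_injective : Function.Injective (toAffPoly (k := k) P) := fun p q h =>
  Subtype.ext (by rw [← map_toAffPoly p, ← map_toAffPoly q, h])

include hK in
theorem isNoetherianRing_affRing : IsNoetherianRing (affRing P).toSubring := by
  haveI := isNoetherianRing_sectRing (P := P) hK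
  refine isNoetherianRing_of_surjective _ _ ((Polynomial.evalRingHom 1).comp (toAffPoly P)) fun x => ?_
  obtain ⟨n, hn⟩ := exists_mem_L_of_mem_affRing x.2
  refine ⟨monom n x.1 hn, Subtype.ext ?_⟩
  show (affRing P).toSubring.subtype ((toAffPoly P (monom n x.1 hn)).eval 1) = _
  rw [← Polynomial.eval_map_apply, map_toAffPoly, map_one]
  simp [monom]

include hK in
theorem dimensionLEOne_affRing : Ring.DimensionLEOne (affRing P).toSubring := by
  classical
  refine ⟨fun {p} hp0 hp => ?_⟩
  obtain ⟨⟨a, haA⟩, hap, ha0⟩ := Submodule.exists_mem_ne_zero_of_ne_bot hp0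
  have ha : a ≠ 0 := fun h => ha0 (Subtype.ext h)
  obtain ⟨m, hm⟩ := exists_mem_L_of_mem_affRing haA
  have hex : ∃ d : ℕ, a ∈ L (Finsupp.single P (d : ℤ) : Divisor k K) := ⟨m, hm⟩
  set d := Nat.find hex with hd
  have hdL := Nat.find_spec hex
  rcases Nat.eq_zero_or_pos d with hd0 | hdpos
  · rw [← hd, hd0] at hdL
    obtain ⟨c, hc⟩ := exists_eq_algebraMap hK (fun h => h (L_zero_le_algebraic hK.1 (by simpa using hdL)))
    have hc0 : c ≠ 0 := fun h => ha (by rw [← hc, h, map_zero])
    refine absurd (Ideal.eq_top_of_isUnit_mem _ hap (IsUnit.of_mul_eq_one ⟨algebraMap k K c⁻¹, Subalgebra.algebraMap_mem _ _⟩ (Subtype.ext ?_))) hp.ne_top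
    show a * algebraMap k K c⁻¹ = 1
    rw [← hc, ← map_mul, mul_inv_cancel₀ hc0, map_one]
  have hdx : a ∉ L (Finsupp.single P ((d : ℤ) - 1) : Divisor k K) := fun h =>
    Nat.find_min hex (m := d - 1) (by omega) (by rwa [Nat.cast_sub (by omega), Nat.cast_one])
  let N := 2 * genus k K + d
  let A := (affRing P).toSubring
  let I : Ideal A := Ideal.span {⟨a, haA⟩}
  have hred : ∀ n : ℕ, ∀ y : K, y ∈ L (Finsupp.single P (n : ℤ) : Divisor k K) → ∀ hyA : y ∈ A,
      ∃ z : A, (z : K) ∈ L (Finsupp.single P (N : ℤ) : Divisor k K) ∧ (⟨y, hyA⟩ : A) - z ∈ I := by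
    intro n
    induction n using Nat.strong_induction_on with
    | _ n ih =>
    intro y hy hyA
    by_cases hn : n ≤ N
    · exact ⟨⟨y, hyA⟩, L_single_mono (by omega) hy, by simp⟩
    obtain ⟨b, hb, hb'⟩ := exists_exact hK (mem_poleOrders_of_ge (P := P) hK (n := n - d) (by omega))
    have hab : a * b ∈ L (Finsupp.single P (n : ℤ) : Divisor k K) := by
      have := mul_mem_L_single hdL hb
      rwa [show ((d : ℤ) + ((n - d : ℕ) : ℤ)) = (n : ℤ) by omega] at this
    have hab' : a * b ∉ L (Finsupp.single P ((n : ℤ) - 1) : Divisor k K) := fun h => by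
      have h2 := (mem_L_single.1 h).2
      rw [map_mul, val_eq_of_not_mem hdL hdx, val_eq_of_not_mem hb hb', ← exp_add, exp_le_exp] at h2
      omega
    obtain ⟨c, hc⟩ := exists_sub_mem hK hab hab' hy
    have hc' : y - c • (a * b) ∈ L (Finsupp.single P ((n - 1 : ℕ) : ℤ) : Divisor k K) := by
      rwa [Nat.cast_sub (by omega), Nat.cast_one]
    obtain ⟨z, hz, hzI⟩ := ih (n - 1) (by omega) _ hc' (mem_affRing_of_mem_L hc')
    refine ⟨z, hz, ?_⟩
    have e : (⟨y, hyA⟩ : A) - z = (⟨y - c • (a * b), mem_affRing_of_mem_L hc'⟩ - z) +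
        ⟨c • b, (affRing P).smul_mem (mem_affRing_of_mem_L hb) c⟩ * ⟨a, haA⟩ := Subtype.ext (by
      show y - z.1 = y - c • (a * b) - z.1 + (c • b) * a
      rw [smul_mul_assoc, mul_comm b a]; ring)
    rw [e]
    exact add_mem hzI (Ideal.mul_mem_left _ _ (Ideal.mem_span_singleton_self _))
  -- the quotient by `a` is finite dimensional
  letI : Algebra k A := (affRing P).algebra
  haveI := L_finite hK.1 (Finsupp.single P (N : ℤ))
  let incl : L (Finsupp.single P (N : ℤ) : Divisor k K) →ₗ[k] A :=
    { toFun := fun z => ⟨z.1, mem_affRing_of_mem_L z.2⟩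
      map_add' := fun _ _ => rfl
      map_smul' := fun _ _ => rfl }
  haveI : Module.Finite k (A ⧸ I) := Module.Finite.of_surjective
    ((Ideal.Quotient.mkₐ k I).toLinearMap.comp incl) fun z => by
      obtain ⟨⟨y, hyA⟩, rfl⟩ := Ideal.Quotient.mk_surjective z
      obtain ⟨n, hn⟩ := exists_mem_L_of_mem_affRing hyA
      obtain ⟨w, hw, hwI⟩ := hred n y hn hyA
      exact ⟨⟨w.1, hw⟩, (Ideal.Quotient.eq.2 hwI).symm⟩
  haveI : IsArtinianRing (A ⧸ I) := IsArtinianRing.of_finite k _
  have hle : I ≤ p := (Ideal.span_singleton_le_iff_mem _).2 hap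
  haveI : (p.map (Ideal.Quotient.mk I)).IsPrime :=
    Ideal.map_isPrime_of_surjective Ideal.Quotient.mk_surjective (by rw [Ideal.mk_ker]; exact hle)
  have hmax : (p.map (Ideal.Quotient.mk I)).IsMaximal := IsArtinianRing.isMaximal_of_isPrime _
  have := Ideal.comap_isMaximal_of_surjective (Ideal.Quotient.mk I) Ideal.Quotient.mk_surjective (K := p.map (Ideal.Quotient.mk I))
  rwa [Ideal.comap_map_of_surjective _ Ideal.Quotient.mk_surjective, ← RingHom.ker_eq_comap_bot, Ideal.mk_ker,
    sup_eq_left.2 hle] at this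

theorem isIntegrallyClosed_affRing : IsIntegrallyClosed (affRing (k := k) P).toSubring := by
  let A := (affRing P).toSubring
  refine (isIntegrallyClosed_iff (FractionRing A)).2 fun {x} hx => ?_
  let j : FractionRing A →+* K := IsFractionRing.lift (g := A.subtype) Subtype.val_injective
  have hy : IsIntegral A (j x) := by
    obtain ⟨q, hq, hqx⟩ := hx
    refine ⟨q, hq, ?_⟩
    have h2 := congrArg j hqx
    rw [Polynomial.hom_eval₂, map_zero] at h2
    rwa [show j.comp (algebraMap A (FractionRing A)) = algebraMap A K from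
      RingHom.ext fun c => IsFractionRing.lift_algebraMap Subtype.val_injective c] at h2
  have hmem : j x ∈ A := by
    intro Q hQ
    obtain ⟨q, hq, hqx⟩ := hy
    have hle : ∀ a : A, Q.1 (a : K) ≤ 1 := fun a => a.2 Q hQ
    let i : A →+* Q.1.integer := A.subtype.codRestrict Q.1.integer hle
    have : IsIntegral Q.1.integer (j x) := ⟨q.map i, hq.map i, by rw [eval₂_map]; exact hqx⟩
    exact (Valuation.Integers.isIntegral_iff_v_le_one (Valuation.integer.integers Q.1)).1 this
  exact ⟨⟨j x, hmem⟩, j.injective (IsFractionRing.lift_algebraMap _ _)⟩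

include hK in
theorem isDedekindDomain_affRing : IsDedekindDomain (affRing P).toSubring := by
  haveI := isNoetherianRing_affRing (P := P) hK
  haveI := dimensionLEOne_affRing (P := P) hK
  haveI := isIntegrallyClosed_affRing (k := k) (P := P)
  exact { }

include hK in
theorem gorenstein_atPrime_sectRing (p : Ideal (sectRing (Finsupp.single P 1 : Divisor k K))) [p.IsPrime]
    (hp : tT P ∉ p) : LocCoh.IsGorensteinLocalRing (Localization.AtPrime p) := by
  haveI := isNoetherianRing_sectRing (P := P) hK
  haveI := isDedekindDomain_affRing (P := P) hK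
  haveI : LocCoh.IsGorensteinRing (Polynomial (affRing P).toSubring) := LC.gorensteinRing_of_isRegularRing _
  refine gorenstein_atPrime_of_pow_mem (toAffPoly P) toAffPoly_injective (tT P) (fun z => ?_) p hp
  choose m hm using fun n => exists_mem_L_of_mem_affRing (z.coeff n).2
  let N := z.support.sup m
  have hr : z.map (affRing P).toSubring.subtype * X ^ N ∈ sectRing (Finsupp.single P 1 : Divisor k K) :=
    (mem_sectRing P).mpr fun i => by
      rw [coeff_mul_X_pow']
      split_ifs with h
      · rw [Polynomial.coeff_map]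
        by_cases hz : i - N ∈ z.support
        · exact L_single_mono (by have := Finset.le_sup (f := m) hz; omega) (hm _)
        · rw [notMem_support_iff.1 hz, map_zero]; exact zero_mem _
      · exact zero_mem _
  refine ⟨N, ⟨_, hr⟩, map_injective (affRing P).toSubring.subtype Subtype.val_injective ?_⟩
  rw [map_toAffPoly, Polynomial.map_mul, Polynomial.map_pow, map_toAffPoly, coe_tT, map_one, one_mul]
  exact mul_comm _ _

include hK in
theorem mem_range_psi_iff (q : k[X]) :
    q ∈ Set.range (psi P hK) ↔ ∀ n, q.coeff n ≠ 0 → n ∈ AddSubmonoid.closure (poleOrders P) := by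
  constructor
  · rintro ⟨z, rfl⟩ n hn
    by_contra hnS
    exact hn (psi_coeff_eq_zero_of_not_mem hK z fun h => hnS (AddSubmonoid.subset_closure h))
  · intro hq
    have : q ∈ (psi P hK).range := by
      rw [as_sum_support q]
      refine sum_mem fun n hn => ?_
      obtain ⟨p, hp, -⟩ := exists_psi_eq hK
        ((Set.ext_iff.1 (closure_poleOrders hK) n).1 (hq n (mem_support_iff.1 hn))) (q.coeff n)
      exact ⟨p, hp⟩
    exact this

theorem tT_ne_zero : tT (k := k) P ≠ 0 := fun h => by
  have := congrArg (fun z : sectRing (Finsupp.single P 1 : Divisor k K) => (z : K[X]).coeff 1) h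
  simp [coe_tT] at this

theorem tT_regular : IsSMulRegular (sectRing (Finsupp.single P 1 : Divisor k K)) (tT P) :=
  fun _ _ h => mul_left_cancel₀ tT_ne_zero h

include hK in
theorem gorenstein_sectRing_iff (hg : 1 ≤ genus k K) :
    LocCoh.IsGorensteinRing (sectRing (Finsupp.single P 1 : Divisor k K)) ↔ IsSymmetric (poleOrders P) := by
  haveI := isNoetherianRing_sectRing (P := P) hK
  have key := gorenstein_iff_of_semigroup_quotient (psi P hK) (tT P) (ker_psi hK (tT P) hg one_ne_zero coe_tT)
    tT_regular (mem_range_psi_iff hK)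
    ⟨2 * genus k K, fun n hn => AddSubmonoid.subset_closure (mem_poleOrders_of_ge hK hn)⟩
    fun p _ hp => gorenstein_atPrime_sectRing hK p hp
  rw [closure_poleOrders hK] at key
  exact key

end Groth.Agent.GrSect6
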